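import Groth.Agent.Sga7.H730.Tr
import Groth.Agent.Sga7.H729.TorsionSec
import Mathlib.FieldTheory.IsAlgClosed.AlgebraicClosure
import Mathlib.AlgebraicGeometry.Morphisms.FormallyUnramified

/-!
# Functions on a group scheme invariant under the `n`-torsion translations

`k` separably closed, `G` a commutative group scheme over `k` whose total space is integral, `[n]` étale and dominant:
a rational function fixed by all translations by `n`-torsion points is of the form `[n]^* ψ`.
-/

set_option autoImplicit false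
universe u

open CategoryTheory CategoryTheory.Limits MonoidalCategory CartesianMonoidalCategory AlgebraicGeometry TopologicalSpace
open scoped MonObj

namespace Groth.Agent.Sga7.H526.Pw

open Groth.Agent.Sga7.H730 Groth.Agent.Sga7.H730.Dv Groth.Agent.Sga7.H730.Tr

/-- An element of a separable algebraic extension `L / K` on which all `K`-embeddings of `L` in an algebraically
closed field agree is in `K`. -/
theorem mem_range_of_forall_algHom {K L Ω : Type*} [Field K] [Field L] [Field Ω] [Algebra K L] [Algebra K Ω]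
    [IsAlgClosed Ω] [Algebra.IsSeparable K L] (j : L →ₐ[K] Ω) (x : L) (h : ∀ ρ : L →ₐ[K] Ω, ρ x = j x) :
    x ∈ (algebraMap K L).range := by
  classical
  have hint : IsIntegral K x := Algebra.IsIntegral.isIntegral x
  have hsep : (minpoly K x).Separable := Algebra.IsSeparable.isSeparable K x
  have hcard : Fintype.card ((minpoly K x).rootSet Ω) = (minpoly K x).natDegree :=
    Polynomial.card_rootSet_eq_natDegree hsep (IsAlgClosed.splits _)
  have hroot : ∀ y ∈ (minpoly K x).rootSet Ω, y = j x := by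
    intro y hy
    have hy' : Polynomial.aeval y (minpoly K x) = 0 := (Polynomial.mem_rootSet.1 hy).2
    obtain ⟨ρ, hρ⟩ := IntermediateField.exists_algHom_of_splits_of_aeval (F := K) (E := L) (K := Ω)
      (fun s => ⟨Algebra.IsIntegral.isIntegral s, IsAlgClosed.splits _⟩) hy'
    rw [← hρ, h ρ]
  have hle : Fintype.card ((minpoly K x).rootSet Ω) ≤ 1 := by
    rw [Fintype.card_le_one_iff]
    rintro ⟨a, ha⟩ ⟨b, hb⟩
    exact Subtype.ext ((hroot a ha).trans (hroot b hb).symm)
  have hpos : 0 < (minpoly K x).natDegree := minpoly.natDegree_pos hint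
  exact (minpoly.natDegree_eq_one_iff).1 (by omega)

/-- The same for a formally unramified homomorphism of fields essentially of finite type. -/
theorem exists_eq_of_forall {F₀ F Ω : Type u} [Field F₀] [Field F] [Field Ω] [IsAlgClosed Ω] (σ : F₀ →+* F)
    (h1 : σ.FormallyUnramified) (h2 : σ.EssFiniteType) (j : F →+* Ω) (x : F)
    (h : ∀ ρ : F →+* Ω, ρ.comp σ = j.comp σ → ρ x = j x) : ∃ y, σ y = x := by
  let _ : Algebra F₀ F := σ.toAlgebra
  let _ : Algebra F₀ Ω := (j.comp σ).toAlgebra
  have : Algebra.FormallyUnramified F₀ F := h1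
  have : Algebra.EssFiniteType F₀ F := h2
  have : Algebra.IsSeparable F₀ F := Algebra.FormallyUnramified.isSeparable F₀ F
  let j' : F →ₐ[F₀] Ω := { j with commutes' := fun _ => rfl }
  obtain ⟨y, hy⟩ := mem_range_of_forall_algHom j' x (fun ρ => h ρ.toRingHom (RingHom.ext fun a => ρ.commutes a))
  exact ⟨y, hy⟩

variable {X Y : Scheme.{u}} [AlgebraicGeometry.IsIntegral X] [AlgebraicGeometry.IsIntegral Y]

theorem SpecMap_sg (f : X ⟶ Y) (h : Dom f) :
    Spec.map (CommRingCat.ofHom (sg f h)) ≫ Y.fromSpecStalk (genericPoint Y) =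
      X.fromSpecStalk (genericPoint X) ≫ f :=
  Groth.Agent.Dix.Center.SpecMap_toKY f (genericPoint Y) (specializes_of_eq h)

omit [AlgebraicGeometry.IsIntegral Y] in
theorem surjective_stalkSpecializes {y y' : Y} (h : y = y') (e : y ⤳ y') :
    Function.Surjective (Y.presheaf.stalkSpecializes e).hom := by
  subst h
  intro a
  refine ⟨a, ?_⟩
  have : Y.presheaf.stalkSpecializes e = 𝟙 _ := Y.presheaf.stalkSpecializes_refl _
  rw [this]
  rfl

theorem sg_formallyUnramified (f : X ⟶ Y) (h : Dom f) [FormallyUnramified f] : (sg f h).FormallyUnramified := by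
  have h1 : (f.stalkMap (genericPoint X)).hom.FormallyUnramified := FormallyUnramified.stalkMap f _
  exact (RingHom.FormallyUnramified.of_surjective (surjective_stalkSpecializes h (specializes_of_eq h))).comp h1

theorem sg_essFiniteType (f : X ⟶ Y) (h : Dom f) [LocallyOfFiniteType f] : (sg f h).EssFiniteType := by
  have h1 : (f.stalkMap (genericPoint X)).hom.EssFiniteType := LocallyOfFiniteType.stalkMap f _
  exact (RingHom.FiniteType.of_surjective _
    (surjective_stalkSpecializes h (specializes_of_eq h))).essFiniteType.comp h1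

theorem isStrictlyHenselian_field (Ω : Type u) [Field Ω] [IsSepClosed Ω] :
    EtCoh.IsStrictlyHenselianLocalRing Ω := by
  refine ⟨inferInstance, ?_⟩
  let φ : Ω ≃+* IsLocalRing.ResidueField Ω := RingEquiv.ofBijective (IsLocalRing.residue Ω)
    ⟨(IsLocalRing.residue Ω).injective, IsLocalRing.residue_surjective⟩
  refine IsSepClosed.of_exists_root _ fun p _ hirr hsep => ?_
  obtain ⟨x, hx⟩ := IsSepClosed.exists_root (p.map (φ.symm : IsLocalRing.ResidueField Ω →+* Ω))
    (by rw [Polynomial.degree_map]; exact hirr.degree_pos.ne') (hsep.map)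
  refine ⟨φ x, ?_⟩
  have h1 : (φ.symm : IsLocalRing.ResidueField Ω →+* Ω) (p.eval (φ x)) = 0 := by
    rw [← Polynomial.eval_map_apply]
    simpa using hx
  exact (map_eq_zero_iff _ φ.symm.injective).mp h1

theorem exists_pw (k : Type u) [Field k] [IsSepClosed k] (G : Over (Spec (CommRingCat.of k))) [GrpObj G]
    [IsCommMonObj G] [AlgebraicGeometry.IsIntegral G.left] [LocallyOfFiniteType G.hom] [IsSeparated G.hom] (n : ℕ)
    [Etale (𝟙 G ^ n : G ⟶ G).left] (hn : Dom (𝟙 G ^ n : G ⟶ G).left) (φ : G.left.functionFieldˣ)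
    (h : ∀ y : 𝟙_ (Over (Spec (CommRingCat.of k))) ⟶ G, y ^ n = 1 → ta y φ = φ) : ∃ ψ, φ = pw G n hn ψ := by
  let Ω := AlgebraicClosure G.left.functionField
  let j : G.left.functionField →+* Ω := algebraMap _ _
  suffices key : ∀ ρ : G.left.functionField →+* Ω, ρ.comp (sg _ hn) = j.comp (sg _ hn) →
      ρ (φ : G.left.functionField) = j φ by
    obtain ⟨y, hy⟩ := exists_eq_of_forall (sg _ hn) (sg_formallyUnramified _ hn) (sg_essFiniteType _ hn) j
      (φ : G.left.functionField) key
    exact ⟨Units.mk0 y (by rintro rfl; rw [map_zero] at hy; exact φ.ne_zero hy.symm), Units.ext hy.symm⟩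
  intro ρ hρ
  let x₁ : Spec (CommRingCat.of Ω) ⟶ G.left :=
    Spec.map (CommRingCat.ofHom j) ≫ G.left.fromSpecStalk (genericPoint G.left)
  let x₂ : Spec (CommRingCat.of Ω) ⟶ G.left :=
    Spec.map (CommRingCat.ofHom ρ) ≫ G.left.fromSpecStalk (genericPoint G.left)
  have e1 : x₁ ≫ (𝟙 G ^ n : G ⟶ G).left = x₂ ≫ (𝟙 G ^ n : G ⟶ G).left := by
    change (Spec.map (CommRingCat.ofHom j) ≫ _) ≫ _ = (Spec.map (CommRingCat.ofHom ρ) ≫ _) ≫ _
    rw [Category.assoc, Category.assoc, ← SpecMap_sg _ hn, ← Category.assoc, ← Category.assoc, ← Spec.map_comp,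
      ← Spec.map_comp, ← CommRingCat.ofHom_comp, ← CommRingCat.ofHom_comp, hρ]
  have e2 : x₁ ≫ G.hom = x₂ ≫ G.hom := by
    have hw : (𝟙 G ^ n : G ⟶ G).left ≫ G.hom = G.hom := Over.w _
    rw [← hw, ← Category.assoc, e1, Category.assoc]
  obtain ⟨c, hc⟩ : ∃ c : k →+* Ω, x₁ ≫ G.hom = Spec.map (CommRingCat.ofHom c) := by
    obtain ⟨c, hc⟩ := Spec.map_surjective (x₁ ≫ G.hom)
    exact ⟨c.hom, hc.symm⟩
  let _ : Algebra k Ω := c.toAlgebra
  let X₁ : Groth.Agent.Sga67.TorsionLift.sp k Ω ⟶ G := Over.homMk x₁ hc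
  let X₂ : Groth.Agent.Sga67.TorsionLift.sp k Ω ⟶ G := Over.homMk x₂ (e2.symm.trans hc)
  have e3 : X₁ ^ n = X₂ ^ n := by
    rw [← comp_pow_id X₁, ← comp_pow_id X₂]
    ext1
    exact e1
  have e4 : (X₂ * X₁⁻¹) ^ n = 1 := by
    rw [mul_pow, inv_pow, e3, mul_inv_cancel]
  obtain ⟨a, ha, hza⟩ := Groth.Agent.Sga7.H729.TorsionSec.exists_sec_of_pow_eq_one
    (isStrictlyHenselian_field k) (X₂ * X₁⁻¹) e4
  have e5 : X₂ = X₁ ≫ tr a := by
    rw [comp_tr, hza, inv_mul_cancel_right]
  have e6 : x₂ = x₁ ≫ (tr a).left := congrArg (fun x => x.left) e5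
  have e7 : Spec.map (CommRingCat.ofHom ρ) ≫ G.left.fromSpecStalk (genericPoint G.left) =
      Spec.map (CommRingCat.ofHom (j.comp (sg (tr a).left (dom_tr a)))) ≫
        G.left.fromSpecStalk (genericPoint G.left) := by
    rw [CommRingCat.ofHom_comp, Spec.map_comp, Category.assoc, SpecMap_sg, ← Category.assoc]
    exact e6
  rw [cancel_mono] at e7
  have e8 : ρ = j.comp (sg (tr a).left (dom_tr a)) := congrArg CommRingCat.Hom.hom (Spec.map_injective e7)
  rw [e8]
  have e9 := h a ha
  have e10 : sg (tr a).left (dom_tr a) (φ : G.left.functionField) = φ := congrArg Units.val e9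
  exact congrArg j e10

end Groth.Agent.Sga7.H526.Pw
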