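import Mathlib.RingTheory.Henselian
import Mathlib.RingTheory.Polynomial.Cyclotomic.Roots
import Mathlib.FieldTheory.IsSepClosed
import Mathlib.FieldTheory.Separable
import Mathlib.RingTheory.Localization.FractionRing

/-!
# The relation `φ τ φ⁻¹ = κ τ ^ q` in the Galois group of the fraction field

`C` a strictly henselian local domain with fraction field `L`, `ℓ` invertible in `C`, `φ` an automorphism of `C` which
fixes `ϖ ≠ 0` and raises the roots of unity of `ℓ`-power order to the power `q`.  `φ` extends to an automorphism `φt` of a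
separable closure of `L`, and for every `τ` in the Galois group `φt τ φt⁻¹ = κ τ ^ q` where `κ` fixes all roots
`ϖ ^ (1 / ℓ ^ n)`.
-/

set_option autoImplicit false

universe u

open Polynomial IsLocalRing

namespace Groth.Agent.Sga7.H526.Rel

/-- A separable closure through another embedding. -/
theorem exists_ringEquiv {L Ls M : Type*} [Field L] [Field Ls] [Field M] [Algebra L Ls] [IsSepClosure L Ls]
    (f : L →+* M) (hM : IsSepClosed M) (hf : @Algebra.IsSeparable L M _ _ f.toAlgebra) :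
    ∃ e : Ls ≃+* M, ∀ a, e (algebraMap L Ls a) = f a := by
  let _ : Algebra L M := f.toAlgebra
  have : IsSepClosure L M := ⟨hM, hf⟩
  exact ⟨(IsSepClosure.equiv L Ls M).toRingEquiv, fun a => (IsSepClosure.equiv L Ls M).commutes a⟩

/-- An automorphism of a field extends to its separable closure. -/
theorem exists_extend {L Ls : Type*} [Field L] [Field Ls] [Algebra L Ls] [IsSepClosure L Ls] (φ : L ≃+* L) :
    ∃ φt : Ls ≃+* Ls, ∀ a, φt (algebraMap L Ls a) = algebraMap L Ls (φ a) := by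
  have hsep : Algebra.IsSeparable L Ls := IsSepClosure.separable
  refine exists_ringEquiv ((algebraMap L Ls).comp (φ : L →+* L)) (IsSepClosure.sep_closed L) ?_
  exact @Algebra.IsSeparable.of_equiv_equiv L Ls L Ls _ _ _ _ ‹Algebra L Ls›
    ((algebraMap L Ls).comp (φ : L →+* L)).toAlgebra φ.symm (RingEquiv.refl Ls) (by
    ext x
    change algebraMap L Ls (φ (φ.symm x)) = algebraMap L Ls x
    rw [RingEquiv.apply_symm_apply]) hsep

/-- A strictly henselian local ring in which `n` is invertible contains a root of the `n`-th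
cyclotomic polynomial. -/
theorem exists_cyclotomic_root (R : Type*) [CommRing R] [HenselianLocalRing R] [IsSepClosed (ResidueField R)]
    (n : ℕ) (hn : IsUnit (n : R)) : ∃ z : R, (cyclotomic n R).IsRoot z := by
  have hn0 : n ≠ 0 := by
    rintro rfl
    simp at hn
  have hnk : IsUnit (n : ResidueField R) := by
    have := hn.map (residue R)
    rwa [map_natCast] at this
  have hsep : (cyclotomic n (ResidueField R)).Separable := by
    have : NeZero (n : ResidueField R) := ⟨hnk.ne_zero⟩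
    exact separable_cyclotomic n (ResidueField R)
  obtain ⟨z, hz⟩ := IsSepClosed.exists_root (cyclotomic n (ResidueField R)) (by
    rw [degree_cyclotomic]
    exact_mod_cast (Nat.totient_pos.2 (Nat.pos_of_ne_zero hn0)).ne') hsep
  obtain ⟨b, rfl⟩ := residue_surjective z
  have e1 : (residue R) ((cyclotomic n R).eval b) = 0 := by
    rw [← eval_map_apply, map_cyclotomic]
    exact hz
  have e2 : IsUnit ((cyclotomic n R).derivative.eval b) := by
    by_contra hcon
    have h3 : (residue R) ((cyclotomic n R).derivative.eval b) = 0 := by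
      rw [residue_eq_zero_iff]
      exact hcon
    rw [← eval_map_apply, ← derivative_map, map_cyclotomic] at h3
    exact hsep.eval₂_derivative_ne_zero (RingHom.id _) (x := residue R b)
      (by rw [eval₂_id]; exact hz) (by rw [eval₂_id]; exact h3)
  obtain ⟨a, ha, -⟩ := HenselianLocalRing.is_henselian _ (cyclotomic.monic n R) b
    (by rw [← residue_eq_zero_iff]; exact e1) e2
  exact ⟨a, ha⟩

/-- `n`-th roots of unity in a domain over a strictly henselian ring `C` with `n` invertible come from `C`. -/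
theorem exists_root_of_unity (C : Type*) [CommRing C] [IsDomain C] [HenselianLocalRing C]
    [IsSepClosed (ResidueField C)] (n : ℕ) (hn : IsUnit (n : C)) {Ω : Type*} [Field Ω] [Algebra C Ω]
    [FaithfulSMul C Ω] (y : Ω) (hy : y ^ n = 1) :
    ∃ c : C, c ^ n = 1 ∧ algebraMap C Ω c = y := by
  obtain ⟨z, hz⟩ := exists_cyclotomic_root C n hn
  have hn0 : n ≠ 0 := by
    rintro rfl
    simp at hn
  have hn' : NeZero n := ⟨hn0⟩
  have hn'' : NeZero (n : C) := ⟨hn.ne_zero⟩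
  have hz1 : IsPrimitiveRoot z n := isRoot_cyclotomic_iff.1 hz
  have hz' : IsPrimitiveRoot (algebraMap C Ω z) n := hz1.map_of_injective (FaithfulSMul.algebraMap_injective C Ω)
  obtain ⟨i, -, hi⟩ := hz'.eq_pow_of_pow_eq_one hy
  refine ⟨z ^ i, ?_, by rw [map_pow, hi]⟩
  rw [← pow_mul, mul_comm, pow_mul, hz1.pow_eq_one, one_pow]

section

variable {C Ls : Type*} [CommRing C] [Field Ls] [Algebra C Ls] {φ : C ≃+* C} {φt : Ls ≃+* Ls} {ϖ : C} {ℓ q : ℕ}

/-- `τ x = c x` with `c` a root of unity. -/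
theorem exists_mul (hϖ0 : algebraMap C Ls ϖ ≠ 0) (m : ℕ)
    (hμ : ∀ z : Ls, z ^ m = 1 → ∃ c : C, c ^ m = 1 ∧ algebraMap C Ls c = z)
    (τ : Ls ≃+* Ls) (hτ : τ (algebraMap C Ls ϖ) = algebraMap C Ls ϖ) (x : Ls) (hx : x ^ m = algebraMap C Ls ϖ) :
    ∃ c : C, c ^ m = 1 ∧ τ x = algebraMap C Ls c * x := by
  have hx0 : x ^ m ≠ 0 := by rw [hx]; exact hϖ0
  by_cases hm : m = 0
  · subst hm
    rw [pow_zero] at hx
    obtain ⟨c, hc⟩ := hμ (τ x / x) (pow_zero _)
    by_cases hx1 : x = 0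
    · exact ⟨1, one_pow _, by rw [hx1, map_zero, mul_zero]⟩
    · exact ⟨c, hc.1, by rw [hc.2, div_mul_cancel₀ _ hx1]⟩
  have hx1 : x ≠ 0 := fun h => hx0 (by rw [h, zero_pow hm])
  obtain ⟨c, hc1, hc2⟩ := hμ (τ x / x) (by
    rw [div_pow, ← map_pow, hx, hτ, div_self hϖ0])
  exact ⟨c, hc1, by rw [hc2, div_mul_cancel₀ _ hx1]⟩

/-- The relation on the `m`-th roots of `ϖ`. -/
theorem conj_apply (hφt : ∀ c, φt (algebraMap C Ls c) = algebraMap C Ls (φ c)) (hϖ : φ ϖ = ϖ)
    (hϖ0 : algebraMap C Ls ϖ ≠ 0) (m : ℕ)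
    (hμ : ∀ z : Ls, z ^ m = 1 → ∃ c : C, c ^ m = 1 ∧ algebraMap C Ls c = z)
    (hφμ : ∀ z : C, z ^ m = 1 → φ z = z ^ q) (τ : Ls ≃+* Ls)
    (hτ : ∀ c, τ (algebraMap C Ls c) = algebraMap C Ls c) (x : Ls) (hx : x ^ m = algebraMap C Ls ϖ) :
    φt (τ (φt.symm x)) = (τ ^ q) x := by
  obtain ⟨c, hc, hcx⟩ := exists_mul hϖ0 m hμ τ (hτ _) x hx
  have hsymm : ∀ c, φt.symm (algebraMap C Ls c) = algebraMap C Ls (φ.symm c) := fun c => by
    rw [RingEquiv.symm_apply_eq, hφt, RingEquiv.apply_symm_apply]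
  obtain ⟨d, hd, hdx⟩ := exists_mul hϖ0 m hμ φt.symm (by
    rw [hsymm, RingEquiv.symm_apply_eq φ |>.2 hϖ.symm]) x hx
  have hpow : ∀ k : ℕ, (τ ^ k) x = algebraMap C Ls (c ^ k) * x := by
    intro k
    induction k with
    | zero => simp
    | succ k ih =>
      rw [pow_succ', RingAut.mul_apply, ih, map_mul, hτ, hcx, pow_succ, map_mul]
      ring
  rw [hpow, ← hφμ c hc, hdx, map_mul, hτ, hcx, mul_left_comm, map_mul, hφt]
  congr 1
  rw [← hdx, RingEquiv.apply_symm_apply]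

end

section

variable {L Ls : Type*} [Field L] [Field Ls] [Algebra L Ls]

/-- Conjugation of an automorphism over `L` by an automorphism preserving `L`. -/
def conj (φL : L ≃+* L) (φt : Ls ≃+* Ls) (h : ∀ a, φt (algebraMap L Ls a) = algebraMap L Ls (φL a))
    (τ : Ls ≃ₐ[L] Ls) : Ls ≃ₐ[L] Ls :=
  AlgEquiv.ofRingEquiv (f := (φt.symm.trans τ.toRingEquiv).trans φt) (fun a => by
    change φt (τ (φt.symm (algebraMap L Ls a))) = algebraMap L Ls a
    have h1 : φt.symm (algebraMap L Ls a) = algebraMap L Ls (φL.symm a) := by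
      rw [RingEquiv.symm_apply_eq, h, RingEquiv.apply_symm_apply]
    rw [h1, τ.commutes, h, RingEquiv.apply_symm_apply])

theorem conj_apply' (φL : L ≃+* L) (φt : Ls ≃+* Ls) (h : ∀ a, φt (algebraMap L Ls a) = algebraMap L Ls (φL a))
    (τ : Ls ≃ₐ[L] Ls) (x : Ls) : conj φL φt h τ x = φt (τ (φt.symm x)) := rfl

end

/-- **The relation.** -/
theorem relation {C L Ls : Type*} [CommRing C] [IsDomain C] [HenselianLocalRing C]
    [IsSepClosed (ResidueField C)] [Field L] [Algebra C L] [IsFractionRing C L] [Field Ls] [Algebra L Ls]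
    (ℓ q : ℕ) (hℓ : IsUnit (ℓ : C)) (ϖ : C) (hϖ0 : ϖ ≠ 0)
    (φ : C ≃+* C) (hϖ : φ ϖ = ϖ) (hφμ : ∀ (z : C) (n : ℕ), z ^ (ℓ ^ n) = 1 → φ z = z ^ q)
    (φL : L ≃+* L) (hφL : ∀ c, φL (algebraMap C L c) = algebraMap C L (φ c))
    (φt : Ls ≃+* Ls) (hφt : ∀ a, φt (algebraMap L Ls a) = algebraMap L Ls (φL a)) (τ : Ls ≃ₐ[L] Ls)
    (n : ℕ) (x : Ls) (hx : x ^ (ℓ ^ n) = algebraMap L Ls (algebraMap C L ϖ)) :
    φt (τ (φt.symm x)) = (τ ^ q) x := by
  let _ : Algebra C Ls := ((algebraMap L Ls).comp (algebraMap C L)).toAlgebra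
  have hinj : Function.Injective (algebraMap C Ls) :=
    (algebraMap L Ls).injective.comp (IsFractionRing.injective C L)
  have : FaithfulSMul C Ls := (faithfulSMul_iff_algebraMap_injective C Ls).2 hinj
  have hℓn : IsUnit ((ℓ ^ n : ℕ) : C) := by rw [Nat.cast_pow]; exact hℓ.pow n
  have h := conj_apply (C := C) (Ls := Ls) (φ := φ) (φt := φt) (ϖ := ϖ) (q := q)
    (fun c => (hφt _).trans (congrArg _ (hφL c))) hϖ (fun h0 => hϖ0 (hinj (h0.trans (map_zero _).symm))) (ℓ ^ n)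
    (fun z hz => exists_root_of_unity C (ℓ ^ n) hℓn z hz) (fun z hz => hφμ z n hz) τ.toRingEquiv
    (fun c => τ.commutes _) x hx
  refine h.trans ?_
  have hp : ∀ (k : ℕ) (y : Ls), (τ.toRingEquiv ^ k) y = (τ ^ k) y := by
    intro k
    induction k with
    | zero => intro y; simp
    | succ k ih =>
      intro y
      rw [pow_succ', pow_succ', RingAut.mul_apply, AlgEquiv.mul_apply, ih]
      rfl
  exact hp q x

/-- **The relation in the Galois group.**  `φ` extends to `φt` and `φt τ φt⁻¹ = κ τ ^ q`, `κ` fixing the roots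
`ϖ ^ (1 / ℓ ^ n)`. -/
theorem exists_relation {C L Ls : Type*} [CommRing C] [IsDomain C] [HenselianLocalRing C]
    [IsSepClosed (ResidueField C)] [Field L] [Algebra C L] [IsFractionRing C L] [Field Ls] [Algebra L Ls]
    [IsSepClosure L Ls] (ℓ q : ℕ) (hℓ : IsUnit (ℓ : C)) (ϖ : C) (hϖ0 : ϖ ≠ 0)
    (φ : C ≃+* C) (hϖ : φ ϖ = ϖ) (hφμ : ∀ (z : C) (n : ℕ), z ^ (ℓ ^ n) = 1 → φ z = z ^ q) :
    ∃ (φL : L ≃+* L) (φt : Ls ≃+* Ls), (∀ c, φL (algebraMap C L c) = algebraMap C L (φ c)) ∧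
      (∀ a, φt (algebraMap L Ls a) = algebraMap L Ls (φL a)) ∧
      ∀ τ : Ls ≃ₐ[L] Ls, ∃ κ : Ls ≃ₐ[L] Ls, (∀ x, φt (τ (φt.symm x)) = κ ((τ ^ q) x)) ∧
        (∀ (n : ℕ) (x : Ls), x ^ (ℓ ^ n) = algebraMap L Ls (algebraMap C L ϖ) → κ x = x) ∧
        ∀ (n : ℕ) (x : Ls), x ^ (ℓ ^ n) = 1 → κ x = x := by
  let φL : L ≃+* L := IsFractionRing.ringEquivOfRingEquiv φ
  have hφL : ∀ c, φL (algebraMap C L c) = algebraMap C L (φ c) :=
    fun c => IsFractionRing.ringEquivOfRingEquiv_algebraMap φ c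
  obtain ⟨φt, hφt⟩ := exists_extend (L := L) (Ls := Ls) φL
  refine ⟨φL, φt, hφL, hφt, fun τ => ⟨conj φL φt hφt τ * (τ ^ q)⁻¹, ?_, ?_, ?_⟩⟩
  · intro x
    rw [AlgEquiv.mul_apply]
    have : (τ ^ q)⁻¹ ((τ ^ q) x) = x := by
      rw [← AlgEquiv.mul_apply, inv_mul_cancel]; rfl
    rw [this]
    rfl
  · intro n x hx
    rw [AlgEquiv.mul_apply]
    have hx' : ((τ ^ q)⁻¹ x) ^ (ℓ ^ n) = algebraMap L Ls (algebraMap C L ϖ) := by
      rw [← map_pow, hx, AlgEquiv.commutes]
    rw [conj_apply', relation ℓ q hℓ ϖ hϖ0 φ hϖ hφμ φL hφL φt hφt τ n _ hx', ← AlgEquiv.mul_apply, mul_inv_cancel]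
    rfl
  · intro n x hx
    let _ : Algebra C Ls := ((algebraMap L Ls).comp (algebraMap C L)).toAlgebra
    have hinj : Function.Injective (algebraMap C Ls) :=
      (algebraMap L Ls).injective.comp (IsFractionRing.injective C L)
    have : FaithfulSMul C Ls := (faithfulSMul_iff_algebraMap_injective C Ls).2 hinj
    have hℓn : IsUnit ((ℓ ^ n : ℕ) : C) := by rw [Nat.cast_pow]; exact hℓ.pow n
    obtain ⟨c, -, hc⟩ := exists_root_of_unity C (ℓ ^ n) hℓn x hx
    rw [← hc]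
    exact (conj φL φt hφt τ * (τ ^ q)⁻¹).commutes _

end Groth.Agent.Sga7.H526.Rel
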