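import Groth.Agent.Sga7.H526.Rel

/-!
# The relation, in the form used for the local monodromy (no hypothesis `ϖ ≠ 0`)
-/

set_option autoImplicit false

universe u

open IsLocalRing

namespace Groth.Agent.Sga7.H526.Rel2

/-- Extension of `φ : C ≃ C` to the separable closure, and the relation. -/
theorem exists_rel (C L Ls : Type u) [CommRing C] [IsDomain C] [HenselianLocalRing C]
    [IsSepClosed (ResidueField C)] [Field L] [Algebra C L] [IsFractionRing C L] [Field Ls]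
    [Algebra L Ls] [IsSepClosure L Ls] (ϖ : C) (ℓ : ℕ) (hp : ℓ.Prime) (hℓ : IsUnit (ℓ : C))
    (φ : C ≃+* C) (hϖ : φ ϖ = ϖ) (q : ℕ) (hφ : ∀ (z : C) (n : ℕ), z ^ (ℓ ^ n) = 1 → φ z = z ^ q) :
    ∃ φt : Ls ≃+* Ls,
      (∀ z : C, φt (algebraMap L Ls (algebraMap C L z)) = algebraMap L Ls (algebraMap C L (φ z))) ∧
      ∀ τ : Ls ≃ₐ[L] Ls, ∃ κ : Ls ≃ₐ[L] Ls,
        (∀ (n : ℕ) (z : Ls), z ^ (ℓ ^ n) = algebraMap L Ls (algebraMap C L ϖ) → κ z = z) ∧
        ∀ z, φt (τ z) = κ ((τ ^ q) (φt z)) := by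
  by_cases h0 : ϖ = 0
  · obtain ⟨φL, φt, hL, ht, h⟩ := Rel.exists_relation (L := L) (Ls := Ls) ℓ q hℓ 1 one_ne_zero φ
      (map_one φ) hφ
    refine ⟨φt, fun z => by rw [ht, hL], fun τ => ?_⟩
    obtain ⟨κ, h1, -, -⟩ := h τ
    refine ⟨κ, fun n z hz => ?_, fun z => ?_⟩
    · have hz0 : z = 0 := by
        rw [h0, map_zero, map_zero] at hz
        exact (pow_eq_zero_iff (pow_ne_zero n hp.ne_zero)).1 hz
      rw [hz0, map_zero]
    · have := h1 (φt z)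
      rwa [RingEquiv.symm_apply_apply] at this
  · obtain ⟨φL, φt, hL, ht, h⟩ := Rel.exists_relation (L := L) (Ls := Ls) ℓ q hℓ ϖ h0 φ hϖ hφ
    refine ⟨φt, fun z => by rw [ht, hL], fun τ => ?_⟩
    obtain ⟨κ, h1, h2, -⟩ := h τ
    refine ⟨κ, h2, fun z => ?_⟩
    have := h1 (φt z)
    rwa [RingEquiv.symm_apply_apply] at this

end Groth.Agent.Sga7.H526.Rel2
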