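import Groth.Agent.Sga7.H526.Rel2
import Groth.Agent.Sga7.H169.CoreDefs

/-!
# `RelStmt` for the local monodromy
-/

set_option autoImplicit false

universe u

open IsLocalRing

namespace Groth.Agent.Sga7.H526.RelStmt

/-- Extension of `φ : C ≃ C` to the separable closure, and the relation. -/
theorem relStmt : Groth.Agent.Sga7.H169.CoreDefs.RelStmt.{u} := by
  intro C L Ls _ _ _ _ _ _ _ _ _ _ ϖ ℓ hp hℓ φ hϖ q hφ
  exact Rel2.exists_rel C L Ls ϖ ℓ hp hℓ φ hϖ q hφ

end Groth.Agent.Sga7.H526.RelStmt
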